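import Groth.Agent.H10Coh.QCohOps
import Groth.Agent.H10Coh.PushAb
import Groth.Agent.H7Lim.Thickening
import Mathlib

/-!
# Nilpotent thickenings of schemes affine over a base
-/

set_option autoImplicit false
set_option linter.style.haveILetI false

universe u

open CategoryTheory CategoryTheory.Limits AlgebraicGeometry TopologicalSpace Opposite

namespace Groth.Agent.H17.CartMod

variable {T Tc U : Scheme.{u}} (i : T ⟶ Tc) [IsClosedImmersion i]

theorem surjective_of_nilpotent (hnil : ∃ n : ℕ, ∀ V : Tc.affineOpens, i.ker.ideal V ^ n = ⊥) :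
    Function.Surjective i.base := by
  intro x
  obtain ⟨V, hV, hxV, -⟩ := exists_isAffineOpen_mem_and_subset (U := (⊤ : Tc.Opens)) (x := x) trivial
  obtain ⟨n, hn⟩ := hnil
  have hs : x ∈ i.ker.support := by
    refine (Scheme.IdealSheafData.mem_support_iff_of_mem (U := ⟨V, hV⟩) hxV).2 ?_
    rw [Scheme.mem_zeroLocus_iff]
    intro s hs hx
    have h0 : s ^ n = 0 := by
      have := Ideal.pow_mem_pow hs n
      rwa [hn ⟨V, hV⟩, Ideal.mem_bot] at this
    have h1 : x ∈ Tc.basicOpen (s ^ (n + 1)) := by rwa [Tc.basicOpen_pow s n.succ_pos]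
    rw [pow_succ, h0, zero_mul, Scheme.basicOpen_zero] at h1
    exact h1
  have hs' : x ∈ (i.ker.support : Set Tc) := hs
  rwa [Scheme.Hom.support_ker, i.isClosedEmbedding.isClosed_range.closure_eq] at hs' 

variable (hnil : ∃ n : ℕ, ∀ V : Tc.affineOpens, i.ker.ideal V ^ n = ⊥)
  (u : T ⟶ U) [IsAffineHom u] (g : Tc.carrier ⟶ U.carrier) (hg : i.base ≫ g = u.base)

include hnil hg in
theorem isAffineOpen_preimage {V : U.Opens} (hV : IsAffineOpen V) :
    IsAffineOpen ((Opens.map g).obj V : Tc.Opens) := by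
  set W : Tc.Opens := (Opens.map g).obj V
  have hW : IsAffineOpen (i ⁻¹ᵁ W) := by
    have : i ⁻¹ᵁ W = u ⁻¹ᵁ V := by
      ext x
      show g (i.base x) ∈ V ↔ u.base x ∈ V
      rw [← hg]
      rfl
    rw [this]
    exact hV.preimage u
  haveI : IsAffine (i ⁻¹ᵁ W).toScheme := hW
  exact H7Lim.isAffine_of_surjective_closedImmersion (i ∣_ W) fun y => by
    obtain ⟨x, hx⟩ := surjective_of_nilpotent i hnil y.1
    have hxW : x ∈ i ⁻¹ᵁ W := show i.base x ∈ W by rw [hx]; exact y.2
    exact ⟨⟨x, hxW⟩, Subtype.ext ((congrArg (fun (φ : (i ⁻¹ᵁ W).toScheme ⟶ Tc) => φ.base ⟨x, hxW⟩) (morphismRestrict_ι i W)).trans hx)⟩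

end Groth.Agent.H17.CartMod
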